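import Cfsg.Prelude.Def_Local
import Cfsg.Prelude.Def_LocalEven
import Cfsg.Prelude.Def_Solvable
import Cfsg.Agent.Lib.Layer.FStar
import Cfsg.Agent.Lib.Layer.Radical
import Cfsg.Agent.Lib.Coprime.Action

/-!
# The abstract configuration behind isolated p-minimal subgroups

`X` has trivial `p`-core, `S` is a `p`-subgroup, `R ≤ S` is normalised by `L ≥ S`, and `K` is a
`p`-perfect subgroup normalised by `S` such that every overgroup `H` of `S` is inside
`K S (H ∩ L)`. Then the normal closure `Y` of `K` is `K`, a `t`-group of class at most two, or is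
generated by its components, transitively permuted by `S`.
-/

set_option autoImplicit false

namespace CfsgLib.IsolatedPMin

open Cfsg
open scoped commutatorElement

/-- The hypotheses, read in the quotient by the `p`-core. -/
structure Setting (p : ℕ) {X : Type*} [Group X] (S R K L Y : Subgroup X) : Prop where
  hS : IsPGroup p S
  hRS : R ≤ S
  hRL : L ≤ Subgroup.normalizer (R : Set X)
  hSL : S ≤ L
  hKY : K ≤ Y
  hYn : Y.Normal
  hYmin : ∀ N : Subgroup X, N.Normal → K ≤ N → Y ≤ N
  hKS : S ≤ Subgroup.normalizer (K : Set X)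
  hKgen : ∀ N : Subgroup X, (∀ x ∈ K, (orderOf x).Coprime p → x ∈ N) → K ≤ N
  htop : Y ⊔ L = ⊤
  hgen : ∀ H : Subgroup X, S ≤ H → H ≤ (K ⊔ S) ⊔ (H ⊓ L)
  hkey : ∀ H : Subgroup X, S ≤ H → ¬ K ≤ H → H ≤ L
  hclose : ∀ N : Subgroup X, K ≤ Subgroup.normalizer (N : Set X) →
    S ≤ Subgroup.normalizer (N : Set X) → R ≤ N → K ≤ N
  hK : K ≠ ⊥
  hO : pCore p X = ⊥

variable {p : ℕ} [Fact p.Prime] {X : Type*} [Group X] [Finite X] {S R K L Y : Subgroup X}

theorem mem_of_sup (h : Setting p S R K L Y) {H : Subgroup X}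
    (hSH : S ≤ Subgroup.normalizer (H : Set X)) {x : X} (hx : x ∈ H ⊔ S)
    (hc : (orderOf x).Coprime p) : x ∈ H := by
  set J := H ⊔ S with hJ
  haveI hn : (H.subgroupOf J).Normal := (Subgroup.normal_subgroupOf_iff_le_normalizer le_sup_left).mpr
    (sup_le Subgroup.le_normalizer hSH)
  have h1 : ∀ y ∈ J, ∃ k : ℕ, y ^ p ^ k ∈ H := by
    intro y hy
    have hy' : y ∈ (↑(S ⊔ H) : Set X) := by rw [sup_comm]; exact hy
    rw [Subgroup.coe_mul_of_left_le_normalizer_right _ _ hSH] at hy'
    obtain ⟨s, hs, a, ha, rfl⟩ := hy'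
    obtain ⟨k, hk⟩ := h.hS ⟨s, hs⟩
    refine ⟨k, ?_⟩
    show (s * a) ^ p ^ k ∈ H
    have hs1 : s ^ p ^ k = 1 := congrArg Subtype.val hk
    let q := QuotientGroup.mk' (H.subgroupOf J)
    let sJ : J := ⟨s, Subgroup.mem_sup_right hs⟩
    let aJ : J := ⟨a, Subgroup.mem_sup_left ha⟩
    have h2 : q ((sJ * aJ) ^ p ^ k) = 1 := by
      rw [map_pow, map_mul, show q aJ = 1 from (QuotientGroup.eq_one_iff aJ).mpr ha, mul_one, ← map_pow,
        show sJ ^ p ^ k = 1 from Subtype.ext hs1, map_one]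
    exact (QuotientGroup.eq_one_iff _ (N := H.subgroupOf J)).mp h2
  obtain ⟨k, hk⟩ := h1 x hx
  obtain ⟨a, ha⟩ := exists_pow_eq_self_of_coprime (n := p ^ k) (Nat.Coprime.pow_left k hc.symm)
  rw [← ha]
  exact H.pow_mem hk a

theorem le_L (h : Setting p S R K L Y) {H : Subgroup X}
    (hSH : S ≤ Subgroup.normalizer (H : Set X)) (hK : ¬ K ≤ H) : H ≤ L := by
  refine le_sup_left.trans (h.hkey (H ⊔ S) le_sup_right fun h' => hK ?_)
  exact h.hKgen H fun x hx hc => mem_of_sup h hSH (h' hx) hc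

theorem le_centralizer_of_inf (h : Setting p S R K L Y) {H : Subgroup X}
    (hSH : S ≤ Subgroup.normalizer (H : Set X)) (hHL : H ≤ L) (hHR : H ⊓ R = ⊥) :
    R ≤ Subgroup.centralizer (H : Set X) := by
  rw [← Subgroup.commutator_eq_bot_iff_le_centralizer, eq_bot_iff, ← hHR]
  refine le_inf ?_ (Coprime.commutator_le_left_of_le_normalizer (hHL.trans h.hRL))
  rw [Subgroup.commutator_comm]
  exact Coprime.commutator_le_left_of_le_normalizer (h.hRS.trans hSH)

/-- A subnormal subgroup, normalised by `S` and not containing `K`, is centralised by `R`. -/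
theorem le_centralizer (h : Setting p S R K L Y) {H : Subgroup X} (hH : H.IsSubnormal)
    (hSH : S ≤ Subgroup.normalizer (H : Set X)) (hK : ¬ K ≤ H) :
    R ≤ Subgroup.centralizer (H : Set X) := by
  have hHL := le_L h hSH hK
  refine le_centralizer_of_inf h hSH hHL (eq_bot_iff.mpr ?_)
  rw [← h.hO]
  refine Layer.le_pCore_of_isSubnormal ?_ ((h.hS.to_le h.hRS).to_le inf_le_right)
  refine Subgroup.IsSubnormal.trans inf_le_left (Subgroup.Normal.isSubnormal ?_) hH
  refine (Subgroup.normal_subgroupOf_iff_le_normalizer inf_le_left).mpr fun x hx => ?_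
  refine Subgroup.mem_normalizer_fintype fun y hy => ?_
  exact ⟨H.mul_mem (H.mul_mem hx hy.1) (H.inv_mem hx),
    (Subgroup.mem_normalizer_iff.mp (hHL.trans h.hRL hx) y).mp hy.2⟩

/-- A normal subgroup not containing `K` is centralised by `Y`. -/
theorem closure_le_centralizer (h : Setting p S R K L Y) (M : Subgroup X) [M.Normal] (hK : ¬ K ≤ M) :
    Y ≤ Subgroup.centralizer (M : Set X) := by
  have hR := le_centralizer h (Subgroup.Normal.isSubnormal inferInstance)
    Subgroup.le_normalizer_of_normal hK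
  exact h.hYmin _ inferInstance
    (h.hclose _ Subgroup.le_normalizer_of_normal Subgroup.le_normalizer_of_normal hR)

theorem closure_ne_bot (h : Setting p S R K L Y) : Y ≠ ⊥ := fun e => h.hK (eq_bot_iff.mpr (e ▸ h.hKY))

theorem eq_top_or_central (h : Setting p S R K L Y) :
    ⁅Y, Y⁆ = Y ∨ ⁅⁅Y, Y⁆, Y⁆ = ⊥ := by
  haveI := h.hYn
  by_cases hK : K ≤ ⁅Y, Y⁆
  · exact Or.inl (le_antisymm (Subgroup.commutator_le_self _) (h.hYmin _ inferInstance hK))
  · refine Or.inr (Subgroup.commutator_eq_bot_iff_le_centralizer.mpr ?_)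
    exact Subgroup.le_centralizer_iff.mp (closure_le_centralizer h _ hK)

/-- In a `p'`-group closure: `K` is the closure, and it is a `t`-group of class at most two. -/
theorem pPrime_case (h : Setting p S R K L Y) (hY : (Nat.card Y).Coprime p) :
    K = Y ∧ (∃ t : ℕ, t.Prime ∧ t ≠ p ∧ IsPGroup t Y) ∧ ⁅⁅Y, Y⁆, Y⁆ = ⊥ := by
  haveI := h.hYn
  have hpp : p.Prime := Fact.out
  obtain ⟨t, ht, htK⟩ := Nat.exists_prime_and_dvd (n := Nat.card K)
    (fun e => h.hK (Subgroup.card_eq_one.mp e))
  haveI := Fact.mk ht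
  have htY : t ∣ Nat.card Y := htK.trans (Subgroup.card_dvd_of_le h.hKY)
  have htp : t ≠ p := by
    rintro rfl
    exact ht.ne_one (Nat.Coprime.eq_one_of_dvd hY.symm htY)
  have hSY : S ≤ Subgroup.normalizer (Y : Set X) := Subgroup.le_normalizer_of_normal
  obtain ⟨a, ha⟩ := IsPGroup.iff_card.mp h.hS
  have hcS : (Nat.card S).Coprime (Nat.card Y) := by rw [ha]; exact Nat.Coprime.pow_left a hY.symm
  obtain ⟨b, hb⟩ := IsPGroup.iff_card.mp (h.hS.to_le h.hRS)
  have hYR : ∀ H : Subgroup X, H ≤ Y → H ⊓ R = ⊥ := fun H hH =>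
    Subgroup.inf_eq_bot_of_coprime
      ((hb ▸ Nat.Coprime.pow_right b hY : (Nat.card Y).Coprime (Nat.card R)).coprime_dvd_left
        (Subgroup.card_dvd_of_le hH))
  set D := Y ⊓ Subgroup.centralizer (R : Set X) with hD
  have hsolS : Group.IsSolvable S := by
    haveI := h.hS.isNilpotent
    infer_instance
  -- the Sylow subgroups for primes other than `t` lie in `D`
  have hDi : ∀ r : ℕ, r.Prime → r ≠ t → ¬ r ∣ D.relIndex Y := by
    intro r hr hrt
    haveI := Fact.mk hr
    obtain ⟨Q, hQ⟩ := Coprime.exists_invariant_sylow hSY hcS (Or.inl hsolS) r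
    set Qm := (Q : Subgroup Y).map Y.subtype with hQm
    have hQY : Qm ≤ Y := Subgroup.map_subtype_le _
    have hKQ : ¬ K ≤ Qm := by
      intro hle
      obtain ⟨n, hn⟩ := IsPGroup.iff_card.mp (Q.2.map Y.subtype)
      have := htK.trans (Subgroup.card_dvd_of_le hle)
      rw [hn] at this
      exact hrt ((Nat.prime_dvd_prime_iff_eq ht hr).mp (ht.dvd_of_dvd_pow this)).symm
    have hcent := le_centralizer_of_inf h hQ (le_L h hQ hKQ) (hYR _ hQY)
    have hQD : Qm ≤ D := le_inf hQY (Subgroup.le_centralizer_iff.mp hcent)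
    intro hd
    have h1 : D.relIndex Y ∣ Qm.relIndex Y := Subgroup.relIndex_dvd_of_le_left Y hQD
    have h2 : Qm.relIndex Y = (Q : Subgroup Y).index := by
      rw [hQm, Subgroup.relIndex, Subgroup.subgroupOf,
        Subgroup.comap_map_eq_self_of_injective Y.subtype_injective]
    exact Q.not_dvd_index (hd.trans (h2 ▸ h1))
  -- an invariant Sylow t-subgroup
  obtain ⟨T, hT⟩ := Coprime.exists_invariant_sylow hSY hcS (Or.inl hsolS) t
  set Tm := (T : Subgroup Y).map Y.subtype with hTm
  have hcop : ((T : Subgroup Y).index).Coprime ((D.subgroupOf Y).index) := by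
    refine Nat.coprime_of_dvd fun r hr h1 h2 => ?_
    by_cases hrt : r = t
    · exact T.not_dvd_index (hrt ▸ h1)
    · exact hDi r hr hrt h2
  have hprod : ∀ y : Y, ∃ u ∈ (T : Subgroup Y), ∃ d ∈ D.subgroupOf Y, u * d = y := by
    set A := (T : Subgroup Y)
    set B := D.subgroupOf Y
    have h1 : B.relIndex A * A.index = (B ⊓ A).index := by
      rw [← Subgroup.inf_relIndex_right, Subgroup.relIndex_mul_index inf_le_right]
    have h2 : B.index ∣ B.relIndex A := by
      refine (Nat.Coprime.dvd_of_dvd_mul_right hcop.symm ?_)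
      rw [h1]
      exact Subgroup.index_dvd_of_le inf_le_left
    have horb : MulAction.orbit A ((1 : Y) : Y ⧸ B) = Set.univ := by
      refine Set.eq_of_subset_of_ncard_le (Set.subset_univ _) ?_ (Set.toFinite _)
      rw [Set.ncard_univ, ← Nat.card_coe_set_eq, Nat.card_congr
        (MulAction.orbitEquivQuotientStabilizer A ((1 : Y) : Y ⧸ B))]
      have hst : MulAction.stabilizer A ((1 : Y) : Y ⧸ B) = B.subgroupOf A := by
        ext a
        rw [MulAction.mem_stabilizer_iff, Subgroup.mem_subgroupOf]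
        change (((a : Y) * 1 : Y) : Y ⧸ B) = _ ↔ _
        rw [mul_one, QuotientGroup.eq, mul_one, inv_mem_iff]
      rw [hst]
      exact Nat.le_of_dvd Nat.card_pos h2
    intro y
    obtain ⟨a, ha⟩ : ((y : Y) : Y ⧸ B) ∈ MulAction.orbit A ((1 : Y) : Y ⧸ B) := horb ▸ Set.mem_univ _
    have ha' : (((a : Y) * 1 : Y) : Y ⧸ B) = (y : Y ⧸ B) := ha
    rw [mul_one, QuotientGroup.eq] at ha'
    exact ⟨a, a.2, _, ha', mul_inv_cancel_left _ _⟩
  set W := ⁅Y, R⁆ with hW
  have hWT : W ≤ Tm := by
    refine Subgroup.commutator_le.mpr fun y hy r hr => ?_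
    obtain ⟨u, hu, d, hd, hud⟩ := hprod ⟨y, hy⟩
    have hy' : y = (u : X) * (d : X) := (congrArg Subtype.val hud).symm
    have hdr : (d : X) * r = r * (d : X) :=
      (Subgroup.mem_centralizer_iff.mp (hd : (d : X) ∈ D).2 r hr).symm
    have e : ⁅y, r⁆ = (u : X) * (r * (u : X)⁻¹ * r⁻¹) := by
      rw [hy', commutatorElement_def]
      calc (u : X) * d * r * ((u : X) * d)⁻¹ * r⁻¹ = (u : X) * ((d : X) * r) * (d : X)⁻¹ * (u : X)⁻¹ * r⁻¹ := by group
        _ = _ := by rw [hdr]; group
    rw [e]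
    have hu' : (u : X) ∈ Tm := ⟨u, hu, rfl⟩
    exact Tm.mul_mem hu' ((Subgroup.mem_normalizer_iff.mp (hT (h.hRS hr)) _).mp (Tm.inv_mem hu'))
  have hWY : W ≤ Y := Subgroup.commutator_le_left _ _
  have hWn : W.Normal := by
    refine Subgroup.normalizer_eq_top_iff.mp (top_le_iff.mp (h.htop ▸ sup_le ?_ ?_))
    · exact Subgroup.normalizer_commutator_ge_left Y R
    · exact Coprime.le_normalizer_commutator Subgroup.le_normalizer_of_normal h.hRL
  have hKW : K ≤ W := by
    refine h.hKgen W fun x hx hc => mem_of_sup h Subgroup.le_normalizer_of_normal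
      (sup_le_sup_left h.hRS W ?_) hc
    refine h.hclose (W ⊔ R) (h.hKY.trans ?_) ?_ le_sup_right hx
    · intro y hy
      refine Subgroup.mem_normalizer_fintype fun z hz => ?_
      rw [SetLike.mem_coe] at hz ⊢
      have hle : (W ⊔ R).map (MulAut.conj y).toMonoidHom ≤ W ⊔ R := by
        rw [Subgroup.map_sup]
        refine sup_le (le_sup_of_le_left ?_) ?_
        · rintro _ ⟨w, hw, rfl⟩
          exact hWn.conj_mem w hw y
        · rintro _ ⟨r, hr, rfl⟩
          show y * r * y⁻¹ ∈ W ⊔ R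
          rw [show y * r * y⁻¹ = ⁅y, r⁆ * r by rw [commutatorElement_def]; group]
          exact Subgroup.mul_mem_sup (Subgroup.commutator_mem_commutator hy hr) hr
      exact hle ⟨z, hz, rfl⟩
    · exact Coprime.le_normalizer_sup_of_le Subgroup.le_normalizer_of_normal (h.hSL.trans h.hRL)
  have hYW : W = Y := le_antisymm hWY (h.hYmin W hWn hKW)
  have htG : IsPGroup t Y := by
    rw [← hYW]
    exact (T.2.map Y.subtype).to_le hWT
  have hclass : ⁅⁅Y, Y⁆, Y⁆ = ⊥ := by
    refine (eq_top_or_central h).resolve_left fun hperf => closure_ne_bot h ?_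
    haveI := htG.isNilpotent
    obtain ⟨n, hn⟩ := (Subgroup.nilpotent_iff_lowerCentralSeries (G := Y)).mp inferInstance
    have hn' : Subgroup.lowerCentralSeries Y n = ⊥ := by
      rw [← Subgroup.top_subtype_lowerCentralSeries, hn, Subgroup.map_bot]
    have hall : ∀ m, Subgroup.lowerCentralSeries Y m = Y := fun m => by
      induction m with
      | zero => rfl
      | succ m ih => rw [Subgroup.lowerCentralSeries_succ, ih, hperf]
    rw [← hall n, hn']
  refine ⟨?_, ⟨t, ht, htp, htG⟩, hclass⟩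
  -- `K` and the fixed points of `R` generate `Y`
  have hDS : S ≤ Subgroup.normalizer (D : Set X) :=
    Coprime.le_normalizer_inf_of_le hSY (Coprime.le_normalizer_centralizer (h.hSL.trans h.hRL))
  have hKD : Y ≤ K ⊔ D := by
    intro y hy
    have hsup : (Y ⊔ S) ⊓ L ≤ D ⊔ S := by
      rintro x ⟨hx, hxL⟩
      rw [SetLike.mem_coe] at hx
      have hx' : x ∈ (↑(Y ⊔ S) : Set X) := hx
      rw [Subgroup.normal_mul] at hx'
      obtain ⟨u, hu, s, hs, rfl⟩ := hx'
      have huL : u ∈ L := by simpa using L.mul_mem hxL (L.inv_mem (h.hSL hs))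
      have hc := le_centralizer_of_inf h (H := Y ⊓ L)
        (Coprime.le_normalizer_inf_of_le hSY (h.hSL.trans Subgroup.le_normalizer)) inf_le_right
        (hYR _ inf_le_left)
      exact Subgroup.mul_mem_sup ⟨hu, Subgroup.le_centralizer_iff.mp hc ⟨hu, huL⟩⟩ hs
    have h1 : y ∈ (K ⊔ D) ⊔ S := by
      have := h.hgen (Y ⊔ S) le_sup_right (Subgroup.mem_sup_left hy)
      refine (sup_le (sup_le ?_ ?_) (hsup.trans (sup_le ?_ ?_))) this
      · exact le_sup_of_le_left le_sup_left
      · exact le_sup_right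
      · exact le_sup_of_le_left le_sup_right
      · exact le_sup_right
    refine mem_of_sup h (Coprime.le_normalizer_sup_of_le h.hKS hDS) h1 ?_
    refine hY.coprime_dvd_left ?_
    rw [← Subgroup.orderOf_mk y hy]
    exact orderOf_dvd_natCard _
  -- `Y = [Y, R]` lies in `K Y'`
  have hY'Y : ⁅Y, Y⁆ ≤ Y := Subgroup.commutator_le_self _
  set N := K ⊔ ⁅Y, Y⁆ with hN
  have hNY : N ≤ Y := sup_le h.hKY hY'Y
  have hNn : Y ≤ Subgroup.normalizer (N : Set X) := by
    intro y hy
    refine Subgroup.mem_normalizer_fintype fun z hz => ?_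
    rw [SetLike.mem_coe] at hz ⊢
    rw [show y * z * y⁻¹ = ⁅y, z⁆ * z by rw [commutatorElement_def]; group]
    exact N.mul_mem (Subgroup.mem_sup_right (Subgroup.commutator_mem_commutator hy (hNY hz))) hz
  have hNR : S ≤ Subgroup.normalizer (N : Set X) :=
    Coprime.le_normalizer_sup_of_le h.hKS Subgroup.le_normalizer_of_normal
  let C : Subgroup X :=
    { carrier := {y | y ∈ Y ∧ ∀ r ∈ R, ⁅y, r⁆ ∈ N}
      one_mem' := ⟨Y.one_mem, fun r _ => by simp [commutatorElement_def]⟩
      mul_mem' := fun {a b} ha hb => ⟨Y.mul_mem ha.1 hb.1, fun r hr => by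
        rw [show ⁅a * b, r⁆ = a * ⁅b, r⁆ * a⁻¹ * ⁅a, r⁆ by simp only [commutatorElement_def]; group]
        exact N.mul_mem ((Subgroup.mem_normalizer_iff.mp (hNn ha.1) _).mp (hb.2 r hr)) (ha.2 r hr)⟩
      inv_mem' := fun {a} ha => ⟨Y.inv_mem ha.1, fun r hr => by
        rw [show ⁅a⁻¹, r⁆ = a⁻¹ * (⁅a, r⁆)⁻¹ * a⁻¹⁻¹ by simp only [commutatorElement_def]; group]
        exact (Subgroup.mem_normalizer_iff.mp (hNn (Y.inv_mem ha.1)) _).mp (N.inv_mem (ha.2 r hr))⟩ }
  have hC : K ⊔ D ≤ C := by
    refine sup_le (fun k hk => ⟨h.hKY hk, fun r hr => ?_⟩) (fun d hd => ⟨hd.1, fun r hr => ?_⟩)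
    · have hk' : k ∈ N := Subgroup.mem_sup_left hk
      rw [commutatorElement_def, show k * r * k⁻¹ * r⁻¹ = k * (r * k⁻¹ * r⁻¹) by group]
      exact N.mul_mem hk' ((Subgroup.mem_normalizer_iff.mp (hNR (h.hRS hr)) _).mp (N.inv_mem hk'))
    · rw [commutatorElement_def, ← Subgroup.mem_centralizer_iff.mp hd.2 r hr]
      simp
  have hYN : Y ≤ N := by
    conv_lhs => rw [← hYW]
    exact Subgroup.commutator_le.mpr fun y hy r hr => (hC (hKD hy)).2 r hr
  -- class two absorbs the derived subgroup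
  have hY'K : ⁅Y, Y⁆ ≤ K := by
    have hz : ∀ z ∈ ⁅Y, Y⁆, ∀ y ∈ Y, z * y = y * z := fun z hz y hy =>
      (Subgroup.mem_centralizer_iff.mp
        (Subgroup.commutator_eq_bot_iff_le_centralizer.mp hclass hz) y hy).symm
    have hdec : ∀ y ∈ Y, ∃ k ∈ K, ∃ z ∈ ⁅Y, Y⁆, y = k * z := by
      intro y hy
      have hy' : y ∈ (↑(K ⊔ ⁅Y, Y⁆) : Set X) := hYN hy
      rw [Subgroup.mul_normal] at hy'
      obtain ⟨k, hk, z, hz', rfl⟩ := hy'
      exact ⟨k, hk, z, hz', rfl⟩
    refine Subgroup.commutator_le.mpr fun y hy y' hy' => ?_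
    obtain ⟨k, hk, z, hz1, rfl⟩ := hdec y hy
    obtain ⟨k', hk', z', hz2, rfl⟩ := hdec y' hy'
    have hkY := h.hKY hk
    have hkY' := h.hKY hk'
    have e1 : k * z * (k' * z') * (k * z)⁻¹ = k * k' * k⁻¹ * z' := by
      have a1 := hz z hz1 (k' * z') (Y.mul_mem hkY' (hY'Y hz2))
      calc k * z * (k' * z') * (k * z)⁻¹ = k * (z * (k' * z')) * z⁻¹ * k⁻¹ := by group
        _ = k * k' * (z' * k⁻¹) := by rw [a1]; group
        _ = _ := by rw [hz z' hz2 k⁻¹ (Y.inv_mem hkY)]; group
    rw [commutatorElement_def, e1, show k * k' * k⁻¹ * z' * (k' * z')⁻¹ = k * k' * k⁻¹ * k'⁻¹ by group]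
    exact K.mul_mem (K.mul_mem (K.mul_mem hk hk') (K.inv_mem hk)) (K.inv_mem hk')
  exact le_antisymm h.hKY (hYN.trans (sup_le le_rfl hY'K))

/-- Otherwise the closure is perfect. -/
theorem perfect_of_not_pPrime (h : Setting p S R K L Y) (hY : ¬ (Nat.card Y).Coprime p) :
    ⁅Y, Y⁆ = Y ∧ ¬ Group.IsNilpotent Y := by
  haveI := h.hYn
  have hnn : ¬ Group.IsNilpotent Y := by
    intro hnil
    apply hY
    have P : Sylow p Y := default
    haveI hPn : (P : Subgroup Y).Normal :=
      (isNilpotent_of_finite_tfae.out 0 3 rfl rfl).mp hnil p ‹_› P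
    have hle : (P : Subgroup Y).map Y.subtype ≤ pCore p X :=
      Layer.le_pCore_of_isSubnormal
        ((Subgroup.Normal.isSubnormal hPn).trans' (Subgroup.Normal.isSubnormal h.hYn)) (P.2.map _)
    rw [h.hO, le_bot_iff, Subgroup.map_eq_bot_iff_of_injective _ Y.subtype_injective] at hle
    have := P.not_dvd_index
    rw [hle, Subgroup.index_bot] at this
    exact ((Fact.out : p.Prime).coprime_iff_not_dvd.mpr this).symm
  refine ⟨(eq_top_or_central h).resolve_right fun hc => hnn ?_, hnn⟩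
  exact (Subgroup.isNilpotent_iff_lowerCentralSeries Y).mpr ⟨2, by
    rw [Subgroup.lowerCentralSeries_succ, Subgroup.lowerCentralSeries_succ,
      Subgroup.lowerCentralSeries_zero, hc]⟩

theorem layer_eq_top (h : Setting p S R K L Y) (hY : ¬ (Nat.card Y).Coprime p) : layer Y = ⊤ := by
  haveI := h.hYn
  obtain ⟨hperf, hnn⟩ := perfect_of_not_pPrime h hY
  set E := (layer Y).map Y.subtype with hE
  haveI : E.Normal := inferInstance
  by_cases hKE : K ≤ E
  · rw [eq_top_iff, ← Subgroup.map_subtype_le_map_subtype, ← hE, ← MonoidHom.range_eq_map,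
      Subgroup.range_subtype]
    exact h.hYmin _ inferInstance hKE
  have hlay : layer Y = ⊥ := by
    have h1 : E ≤ Subgroup.centralizer (E : Set X) :=
      (Subgroup.map_subtype_le _).trans (closure_le_centralizer h E hKE)
    have h2 : ⁅E, E⁆ = ⊥ := Subgroup.commutator_eq_bot_iff_le_centralizer.mpr h1
    rw [hE, ← Subgroup.map_commutator, Layer.commutator_layer_self,
      Subgroup.map_eq_bot_iff_of_injective _ Y.subtype_injective] at h2
    exact h2
  exfalso
  apply hnn
  haveI := Fitting.fittingSubgroup_normal (G := Y)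
  set F := (fittingSubgroup Y).map Y.subtype with hF
  haveI : F.Normal := inferInstance
  haveI := Fitting.fittingSubgroup_isNilpotent (G := Y)
  have htop : fittingSubgroup Y = ⊤ := by
    by_cases hKF : K ≤ F
    · rw [eq_top_iff, ← Subgroup.map_subtype_le_map_subtype, ← hF, ← MonoidHom.range_eq_map,
        Subgroup.range_subtype]
      exact h.hYmin _ inferInstance hKF
    · rw [eq_top_iff]
      refine le_trans ?_ (Layer.centralizer_fittingSubgroup_le hlay)
      intro y _
      refine Subgroup.mem_centralizer_iff.mpr fun f hf => Subtype.ext ?_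
      exact Subgroup.mem_centralizer_iff.mp (closure_le_centralizer h F hKF y.2) f
        (Subgroup.mem_map_of_mem Y.subtype hf)
  have hn : Group.IsNilpotent ↥(⊤ : Subgroup Y) := htop ▸ Fitting.fittingSubgroup_isNilpotent (G := Y)
  exact Group.isNilpotent_top.mp hn

/-- Conjugates of a component by `S`. -/
def orb (S J : Subgroup X) : Subgroup X := ⨆ s : S, J.map (MulAut.conj (s : X)).toMonoidHom

theorem le_orb (S J : Subgroup X) : J ≤ orb S J := fun x hx =>
  le_iSup (fun s : S => J.map (MulAut.conj (s : X)).toMonoidHom) 1 ⟨x, hx, by simp⟩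

theorem le_normalizer_orb (S J : Subgroup X) : S ≤ Subgroup.normalizer (orb S J : Set X) := by
  intro s hs
  refine Subgroup.mem_normalizer_fintype fun x hx => ?_
  have hle : (orb S J).map (MulAut.conj s).toMonoidHom ≤ orb S J := by
    rw [orb, Subgroup.map_iSup]
    refine iSup_le fun t => le_iSup_of_le (⟨s, hs⟩ * t) (le_of_eq ?_)
    rw [Subgroup.map_map]
    refine congrArg (fun φ => Subgroup.map φ J) ?_
    ext y
    simp [mul_assoc]
  exact hle ⟨x, hx, rfl⟩

theorem transitive (h : Setting p S R K L Y) (hY : ¬ (Nat.card Y).Coprime p)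
    {K₁ K₂ : Subgroup Y} (h₁ : IsComponent K₁) (h₂ : IsComponent K₂) :
    ∃ s ∈ S, K₂.map Y.subtype = (K₁.map Y.subtype).map (MulAut.conj s).toMonoidHom := by
  haveI := h.hYn
  have hYsn : Y.IsSubnormal := Subgroup.Normal.isSubnormal h.hYn
  have hlay := layer_eq_top h hY
  have hperf := (perfect_of_not_pPrime h hY).1
  have hcomp : ∀ {J : Subgroup Y}, IsComponent J → IsComponent (J.map Y.subtype) := fun hJ =>
    (Layer.isComponent_map_subtype_iff hYsn _).mp hJ
  have hconj : ∀ {J : Subgroup X}, IsComponent J → ∀ g : X,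
      IsComponent (J.map (MulAut.conj g).toMonoidHom) := fun hJ g =>
    Layer.isComponent_map_equiv (MulAut.conj g) hJ
  have hconjY : ∀ {J : Subgroup X}, J ≤ Y → ∀ g : X, J.map (MulAut.conj g).toMonoidHom ≤ Y := by
    rintro J hJ g _ ⟨x, hx, rfl⟩
    exact h.hYn.conj_mem x (hJ hx) g
  have hnorm : ∀ {J : Subgroup X}, IsComponent J → Y ≤ Subgroup.normalizer (J : Set X) := by
    intro J hJ
    refine le_trans ?_ (Layer.component_normal_in_layer hJ)
    have h1 := Layer.map_layer_le hYsn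
    rwa [hlay, ← MonoidHom.range_eq_map, Subgroup.range_subtype] at h1
  -- `K` lies in every orbit product
  have hKO : ∀ J : Subgroup X, IsComponent J → J ≤ Y → K ≤ orb S J := by
    intro J hJ hJY
    by_contra hK
    have hOY : orb S J ≤ Y := iSup_le fun s => hconjY hJY _
    have hON : Y ≤ Subgroup.normalizer (orb S J : Set X) := by
      intro y hy
      refine Subgroup.mem_normalizer_fintype fun x hx => ?_
      have hle : (orb S J).map (MulAut.conj y).toMonoidHom ≤ orb S J := by
        rw [orb, Subgroup.map_iSup]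
        refine iSup_le fun t => le_iSup_of_le t ?_
        rintro _ ⟨z, hz, rfl⟩
        exact (Subgroup.mem_normalizer_iff.mp (hnorm (hconj hJ _) hy) z).mp hz
      exact hle ⟨x, hx, rfl⟩
    have hsn : (orb S J).IsSubnormal :=
      Subgroup.IsSubnormal.trans hOY
        (Subgroup.Normal.isSubnormal ((Subgroup.normal_subgroupOf_iff_le_normalizer hOY).mpr hON)) hYsn
    have hRJ : R ≤ Subgroup.centralizer (J : Set X) :=
      (le_centralizer h hsn (le_normalizer_orb S J) hK).trans (Subgroup.centralizer_le (le_orb S J))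
    set Z := Subgroup.centralizer ((Subgroup.normalClosure (J : Set X) : Subgroup X) : Set X) with hZ
    have hRZ : R ≤ Z := by
      rw [hZ, Subgroup.le_centralizer_iff]
      rw [Subgroup.normalClosure, Subgroup.closure_le]
      intro x hx
      obtain ⟨a, ha, hax⟩ := Group.mem_conjugatesOfSet_iff.mp hx
      obtain ⟨g, rfl⟩ := isConj_iff.mp hax
      have hg : g ∈ (↑(L ⊔ Y) : Set X) := by rw [sup_comm, h.htop]; trivial
      rw [Subgroup.mul_normal] at hg
      obtain ⟨l, hl, y, hy, rfl⟩ := hg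
      refine Subgroup.mem_centralizer_iff.mpr fun r hr => ?_
      have hr' : l⁻¹ * r * l ∈ R := by
        have := (Subgroup.mem_normalizer_iff.mp (h.hRL (L.inv_mem hl)) r).mp hr
        simpa using this
      have hb : y * a * y⁻¹ ∈ J := (Subgroup.mem_normalizer_iff.mp (hnorm hJ hy) a).mp ha
      have := Subgroup.mem_centralizer_iff.mp (hRJ hr') _ hb
      calc r * (l * y * a * (l * y)⁻¹) = l * ((l⁻¹ * r * l) * (y * a * y⁻¹)) * l⁻¹ := by group
        _ = l * ((y * a * y⁻¹) * (l⁻¹ * r * l)) * l⁻¹ := by rw [this]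
        _ = l * y * a * (l * y)⁻¹ * r := by group
    have hYZ : Y ≤ Z := h.hYmin _ inferInstance
      (h.hclose _ Subgroup.le_normalizer_of_normal Subgroup.le_normalizer_of_normal hRZ)
    have hJJ : ⁅J, J⁆ = ⊥ := Subgroup.commutator_eq_bot_iff_le_centralizer.mpr
      ((hJY.trans hYZ).trans (Subgroup.centralizer_le Subgroup.le_normalClosure))
    rw [Layer.isPerfect_of_isComponent hJ] at hJJ
    exact Layer.ne_bot_of_isComponent hJ hJJ
  by_contra hno
  push Not at hno
  set J₁ := K₁.map Y.subtype with hJ₁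
  set J₂ := K₂.map Y.subtype with hJ₂
  have hne : ∀ s t : S, J₂.map (MulAut.conj (t : X)).toMonoidHom ≠
      J₁.map (MulAut.conj (s : X)).toMonoidHom := by
    intro s t e
    refine hno ((t : X)⁻¹ * s) (S.mul_mem (S.inv_mem t.2) s.2) ?_
    clear_value J₁ J₂
    apply Subgroup.map_injective (f := (MulAut.conj (t : X)).toMonoidHom) (MulAut.conj (t : X)).injective
    rw [e, Subgroup.map_map]
    refine congrArg (fun φ => Subgroup.map φ J₁) ?_
    ext y
    simp [mul_assoc]
  have hYc : Y ≤ Subgroup.centralizer (Y : Set X) := by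
    refine h.hYmin _ inferInstance (Subgroup.le_centralizer_iff.mp ?_)
    have hY' : Y = (layer Y).map Y.subtype := by
      rw [hlay, ← MonoidHom.range_eq_map, Subgroup.range_subtype]
    rw [hY', layer, Subgroup.gc_map_comap Y.subtype |>.l_sSup]
    refine iSup₂_le fun J hJ => ?_
    -- every component avoids one of the two orbits
    have hav : ∀ (I : Subgroup X), IsComponent I → I ≤ Y →
        (∀ s : S, J.map Y.subtype ≠ I.map (MulAut.conj (s : X)).toMonoidHom) →
        J.map Y.subtype ≤ Subgroup.centralizer (K : Set X) := by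
      intro I hI hIY hd
      refine le_trans ?_ (Subgroup.centralizer_le (hKO I hI hIY))
      rw [Subgroup.le_centralizer_iff]
      exact iSup_le fun s => Subgroup.commutator_eq_bot_iff_le_centralizer.mp
        (Layer.commutator_eq_bot_of_ne (hconj hI _) (hcomp hJ) (hd s).symm)
    by_cases hd : ∀ s : S, J.map Y.subtype ≠ J₁.map (MulAut.conj (s : X)).toMonoidHom
    · exact hav _ (hcomp h₁) (Subgroup.map_subtype_le _) hd
    · push Not at hd
      obtain ⟨s, hs⟩ := hd
      exact hav _ (hcomp h₂) (Subgroup.map_subtype_le _) fun t ht => hne s t (ht.symm.trans hs)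
  apply closure_ne_bot h
  rw [← hperf]
  exact Subgroup.commutator_eq_bot_iff_le_centralizer.mpr hYc

end CfsgLib.IsolatedPMin
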