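import Cfsg.Agent.S2790
import Cfsg.Agent.S2905
import Cfsg.Agent.Lib.IsolatedPMin.Basic
import Cfsg.Agent.Lib.ZJ.RealElements

/-!
# Isolated p-minimal subgroups: reduction to the quotient by the p-core
-/

set_option autoImplicit false

namespace CfsgLib.IsolatedPMin

open Cfsg
open scoped commutatorElement

universe u
variable {G : Type u} [Group G] [Finite G] {p : ℕ} [Fact p.Prime]

/-- An overgroup of `S` is generated by the normaliser of `S` in it and its `p`-minimal subgroups. -/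
theorem le_generated (S : Sylow p G) (H : Subgroup G) (hSH : (S : Subgroup G) ≤ H) :
    H ≤ (H ⊓ Subgroup.normalizer ((S : Subgroup G) : Set G)) ⊔
      ⨆ P : {P : Subgroup G // (S : Subgroup G) ≤ P ∧ P ≤ H ∧ Cfsg.IsPMinimal p ↥P}, (P : Subgroup G) := by
  intro g hg
  obtain ⟨h1, h2⟩ := Cfsg.Agent.S2790.result (S.subtype hSH)
  obtain ⟨x, hx, y, hy, hxy⟩ := h2 ⟨g, hg⟩
  rw [← h1] at hx
  set Z := (H ⊓ Subgroup.normalizer ((S : Subgroup G) : Set G)) ⊔
    ⨆ P : {P : Subgroup G // (S : Subgroup G) ≤ P ∧ P ≤ H ∧ Cfsg.IsPMinimal p ↥P}, (P : Subgroup G)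
  have hgen : ((S.subtype hSH : Sylow p H) : Subgroup H) ⊔
      (⨆ P : {P : Subgroup H // ((S.subtype hSH : Sylow p H) : Subgroup H) ≤ P ∧ Cfsg.IsPMinimal p ↥P},
        (P : Subgroup H)) ≤ Z.comap H.subtype := by
    refine sup_le (fun s hs => ?_) (iSup_le ?_)
    · rw [Sylow.coe_subtype] at hs
      exact Subgroup.mem_sup_left ⟨s.2, Subgroup.le_normalizer hs⟩
    · rintro ⟨P, hSP, hP⟩
      rw [← Subgroup.map_le_iff_le_comap]
      refine le_sup_of_le_right (le_iSup_of_le ⟨P.map H.subtype, ?_, Subgroup.map_subtype_le _,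
        Cfsg.Agent.S2790.pminimal_congr (P.equivMapOfInjective H.subtype H.subtype_injective) hP⟩ le_rfl)
      intro s hs
      exact ⟨⟨s, hSH hs⟩, hSP (by rw [Sylow.coe_subtype]; exact hs), rfl⟩
  have hyn : (y : G) ∈ H ⊓ Subgroup.normalizer ((S : Subgroup G) : Set G) := by
    refine ⟨y.2, Subgroup.mem_normalizer_fintype fun z hz => ?_⟩
    rw [SetLike.mem_coe] at hz ⊢
    have := (Subgroup.mem_normalizer_iff.mp hy ⟨z, hSH hz⟩).mp (by rw [Sylow.coe_subtype]; exact hz)
    rw [Sylow.coe_subtype] at this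
    exact this
  have e : g = (x : G) * (y : G) := congrArg Subtype.val hxy
  rw [e]
  exact Z.mul_mem (hgen hx) (Subgroup.mem_sup_left hyn)

/-- The hypotheses on `S`, `P`, `L`, `Y` in `G`. -/
structure Data (S : Sylow p G) (P L Y : Subgroup G) : Prop where
  hSP : (S : Subgroup G) ≤ P
  hPmin : Cfsg.IsPMinimal p ↥P
  hL : L = Subgroup.normalizer ((S : Subgroup G) : Set G) ⊔
    ⨆ P' : {P' : Subgroup G // (S : Subgroup G) ≤ P' ∧ Cfsg.IsPMinimal p ↥P' ∧ P' ≠ P}, (P' : Subgroup G)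
  hiso : ¬ (Cfsg.pCore p ↥L).map L.subtype ≤ (Cfsg.pCore p ↥P).map P.subtype
  hY : Y = Subgroup.normalClosure (((Cfsg.pResidual p ↥P).map P.subtype : Subgroup G) : Set G)

variable {S : Sylow p G} {P L Y : Subgroup G}

theorem sylow_le_L (d : Data S P L Y) : (S : Subgroup G) ≤ L := by
  rw [d.hL]
  exact le_sup_of_le_left Subgroup.le_normalizer

theorem le_P_sup_inf (d : Data S P L Y) (H : Subgroup G) (hSH : (S : Subgroup G) ≤ H) :
    H ≤ P ⊔ (H ⊓ L) := by
  refine (le_generated S H hSH).trans (sup_le ?_ (iSup_le ?_))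
  · rw [d.hL]
    exact le_sup_of_le_right (inf_le_inf_left H le_sup_left)
  · rintro ⟨P', h1, h2, h3⟩
    by_cases e : P' = P
    · exact le_sup_of_le_left e.le
    · refine le_sup_of_le_right (le_inf h2 ?_)
      rw [d.hL]
      exact le_sup_of_le_right (le_iSup_of_le ⟨P', h1, h3, e⟩ le_rfl)

theorem le_L_of (d : Data S P L Y) (H : Subgroup G) (hSH : (S : Subgroup G) ≤ H) (hP : ¬ P ≤ H) :
    H ≤ L := by
  refine (le_generated S H hSH).trans (sup_le ?_ (iSup_le ?_))
  · rw [d.hL]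
    exact le_sup_of_le_left inf_le_right
  · rintro ⟨P', h1, h2, h3⟩
    rw [d.hL]
    exact le_sup_of_le_right (le_iSup_of_le ⟨P', h1, h3, fun (e : P' = P) => hP (e ▸ h2)⟩ le_rfl)

theorem residual_le_P (P : Subgroup G) : (Cfsg.pResidual p ↥P).map P.subtype ≤ P :=
  Subgroup.map_subtype_le _

theorem P_le_normalizer (P : Subgroup G) :
    P ≤ Subgroup.normalizer (((Cfsg.pResidual p ↥P).map P.subtype : Subgroup G) : Set G) := by
  haveI := Transfer.pResidual_normal p ↥P
  intro x hx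
  refine Subgroup.mem_normalizer_fintype fun y hy => ?_
  obtain ⟨z, hz, rfl⟩ := hy
  exact ⟨⟨x, hx⟩ * z * ⟨x, hx⟩⁻¹, Subgroup.Normal.conj_mem ‹_› z hz _, rfl⟩

theorem residual_sup_sylow (d : Data S P L Y) :
    (Cfsg.pResidual p ↥P).map P.subtype ⊔ (S : Subgroup G) = P := by
  refine le_antisymm (sup_le (residual_le_P P) d.hSP) ?_
  have h := congrArg (Subgroup.map P.subtype) (Transfer.sylow_sup_pResidual (S.subtype d.hSP))
  rw [Subgroup.map_sup, Sylow.coe_subtype, Subgroup.map_subgroupOf_eq_of_le d.hSP,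
    ← MonoidHom.range_eq_map, Subgroup.range_subtype] at h
  rw [sup_comm, h]

theorem residual_le_Y (d : Data S P L Y) : (Cfsg.pResidual p ↥P).map P.subtype ≤ Y := by
  rw [d.hY]; exact Subgroup.le_normalClosure

theorem closure_normal (d : Data S P L Y) : Y.Normal := by
  rw [d.hY]; exact Subgroup.normalClosure_normal

theorem closure_sup_L (d : Data S P L Y) : Y ⊔ L = ⊤ := by
  refine top_le_iff.mp ((le_P_sup_inf d ⊤ le_top).trans (sup_le ?_ (le_sup_of_le_right inf_le_right)))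
  rw [← residual_sup_sylow d]
  exact sup_le_sup (residual_le_Y d) (sylow_le_L d)

theorem core_L_le (d : Data S P L Y) : (Cfsg.pCore p ↥L).map L.subtype ≤ (S : Subgroup G) := by
  have h := Fitting.pCore_eq_iInf_sylow (G := L) p
  intro x hx
  obtain ⟨y, hy, rfl⟩ := hx
  have := (Fitting.mem_pCore_iff_forall_sylow (G := L)).mp hy (S.subtype (sylow_le_L d))
  rw [Sylow.coe_subtype] at this
  exact this

theorem core_L_normalized (L : Subgroup G) :
    L ≤ Subgroup.normalizer (((Cfsg.pCore p ↥L).map L.subtype : Subgroup G) : Set G) := by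
  haveI := Fitting.pCore_normal (G := L) p
  intro x hx
  refine Subgroup.mem_normalizer_fintype fun y hy => ?_
  obtain ⟨z, hz, rfl⟩ := hy
  exact ⟨⟨x, hx⟩ * z * ⟨x, hx⟩⁻¹, Subgroup.Normal.conj_mem ‹_› z hz _, rfl⟩

/-- A subgroup normalised by `P` that contains `O_p(L)` contains `O^p(P)`. -/
theorem residual_le_of (d : Data S P L Y) {N : Subgroup G} (hN : P ≤ Subgroup.normalizer (N : Set G))
    (hR : (Cfsg.pCore p ↥L).map L.subtype ≤ N) : (Cfsg.pResidual p ↥P).map P.subtype ≤ N := by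
  haveI hn : (N.subgroupOf P).Normal :=
    ⟨fun x hx g => (Subgroup.mem_normalizer_iff.mp (hN g.2) x).mp hx⟩
  obtain ⟨-, M, ⟨hM, hSM⟩, -⟩ := d.hPmin (S.subtype d.hSP)
  haveI := Subgroup.normalCore_normal M
  obtain ⟨h1, -, h3, -⟩ := Cfsg.Agent.S2905.result d.hPmin (S.subtype d.hSP) M hM hSM
  rcases h3 _ hn with h | h
  · refine (Subgroup.map_mono h).trans ?_
    rw [Subgroup.subgroupOf_map_subtype]
    exact inf_le_left
  · exfalso
    apply d.hiso
    intro x hx
    have hxS := core_L_le d hx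
    refine ⟨⟨x, d.hSP hxS⟩, h1 _ (Subgroup.Normal.isSubnormal hn) (h.trans M.normalCore_le)
      ⟨hR hx, ?_⟩, rfl⟩
    rw [SetLike.mem_coe, Sylow.coe_subtype]
    exact hxS

theorem residual_not_le_core (d : Data S P L Y) [(Cfsg.pCore p G).Normal] :
    ¬ (Cfsg.pResidual p ↥P).map P.subtype ≤ Cfsg.pCore p G := by
  intro h
  apply (d.hPmin (S.subtype d.hSP)).1
  have hQS : Cfsg.pCore p G ≤ (S : Subgroup G) := fun x hx =>
    (Fitting.mem_pCore_iff_forall_sylow).mp hx S
  have hP : P = (S : Subgroup G) :=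
    le_antisymm ((residual_sup_sylow d).ge.trans (sup_le (h.trans hQS) le_rfl)) d.hSP
  rw [Sylow.coe_subtype, Subgroup.subgroupOf_eq_top.mpr hP.le]
  infer_instance

theorem setting (d : Data S P L Y) [(Cfsg.pCore p G).Normal] :
    Setting p ((S : Subgroup G).map (QuotientGroup.mk' (Cfsg.pCore p G)))
      (((Cfsg.pCore p ↥L).map L.subtype).map (QuotientGroup.mk' (Cfsg.pCore p G)))
      (((Cfsg.pResidual p ↥P).map P.subtype).map (QuotientGroup.mk' (Cfsg.pCore p G)))
      (L.map (QuotientGroup.mk' (Cfsg.pCore p G))) (Y.map (QuotientGroup.mk' (Cfsg.pCore p G))) := by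
  set π := QuotientGroup.mk' (Cfsg.pCore p G) with hπ
  have hsurj : Function.Surjective π := QuotientGroup.mk'_surjective _
  have hQS : Cfsg.pCore p G ≤ (S : Subgroup G) := fun x hx =>
    (Fitting.mem_pCore_iff_forall_sylow).mp hx S
  set K := (Cfsg.pResidual p ↥P).map P.subtype with hK
  have hpre : ∀ H : Subgroup (G ⧸ Cfsg.pCore p G), (S : Subgroup G).map π ≤ H →
      (S : Subgroup G) ≤ H.comap π := fun H hH => Subgroup.map_le_iff_le_comap.mp hH
  have hPle : ∀ H : Subgroup G, (S : Subgroup G) ≤ H → K ≤ H → P ≤ H := fun H h1 h2 =>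
    (residual_sup_sylow d).ge.trans (sup_le h2 h1)
  refine
    { hS := S.2.map π, hRS := Subgroup.map_mono (core_L_le d),
      hRL := (Subgroup.map_mono (core_L_normalized L)).trans (Subgroup.le_normalizer_map π),
      hSL := Subgroup.map_mono (sylow_le_L d), hKY := Subgroup.map_mono (residual_le_Y d),
      hYn := (closure_normal d).map π hsurj, hYmin := ?_,
      hKS := (Subgroup.map_mono (d.hSP.trans (P_le_normalizer P))).trans (Subgroup.le_normalizer_map π),
      hKgen := ?_, htop := ?_, hgen := ?_, hkey := ?_, hclose := ?_, hK := ?_, hO := ?_ }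
  · intro N hN hKN
    rw [Subgroup.map_le_iff_le_comap] at hKN ⊢
    haveI := hN
    rw [d.hY]
    exact Subgroup.normalClosure_le_normal hKN
  · intro N hN
    rw [Subgroup.map_le_iff_le_comap, hK, Subgroup.map_le_iff_le_comap, Cfsg.pResidual, Subgroup.closure_le]
    intro x hx
    refine hN _ ⟨P.subtype x, ⟨x, Subgroup.subset_closure hx, rfl⟩, rfl⟩ ?_
    exact Nat.Coprime.coprime_dvd_left ((orderOf_map_dvd π _).trans (orderOf_map_dvd P.subtype x)) hx
  · rw [← Subgroup.map_sup, closure_sup_L d, Subgroup.map_top_of_surjective π hsurj]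
  · intro H hH
    have h := Subgroup.map_mono (f := π) (le_P_sup_inf d (H.comap π) (hpre H hH))
    rw [Subgroup.map_comap_eq_self_of_surjective hsurj, Subgroup.map_sup] at h
    refine h.trans (sup_le_sup ?_ (le_inf ?_ (Subgroup.map_mono inf_le_right)))
    · rw [← Subgroup.map_sup, residual_sup_sylow d]
    · exact (Subgroup.map_mono inf_le_left).trans (Subgroup.map_comap_le π H)
  · intro H hH hKH
    have h := Subgroup.map_mono (f := π) (le_L_of d (H.comap π) (hpre H hH)
      fun h' => hKH (Subgroup.map_le_iff_le_comap.mpr ((residual_le_P P).trans h')))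
    rwa [Subgroup.map_comap_eq_self_of_surjective hsurj] at h
  · intro N h1 h2 h3
    rw [Subgroup.map_le_iff_le_comap] at h3 ⊢
    refine residual_le_of d ?_ h3
    refine hPle _ (fun s hs => Subgroup.le_normalizer_comap π (h2 (Subgroup.mem_map_of_mem π hs)))
      (fun s hs => Subgroup.le_normalizer_comap π (h1 (Subgroup.mem_map_of_mem π hs)))
  · intro h
    rw [Subgroup.map_eq_bot_iff, QuotientGroup.ker_mk'] at h
    exact residual_not_le_core d h
  · exact le_bot_iff.mp ZJ.pCore_quotient_pCore_le_bot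

/-- The kernel of `Y → G / O_p(G)` is `O_p(Y)`. -/
theorem ker_eq (d : Data S P L Y) [(Cfsg.pCore p G).Normal] :
    ((QuotientGroup.mk' (Cfsg.pCore p G)).subgroupMap Y).ker = Cfsg.pCore p ↥Y := by
  haveI := closure_normal d
  apply le_antisymm
  · refine Fitting.le_pCore inferInstance fun x => ?_
    have hx : ((x : Y) : G) ∈ Cfsg.pCore p G :=
      (QuotientGroup.eq_one_iff _).mp (congrArg Subtype.val (MonoidHom.mem_ker.mp x.2))
    obtain ⟨k, hk⟩ := (Fitting.pCore_isPGroup (G := G) p) ⟨_, hx⟩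
    have hk' : ((x : Y) : G) ^ p ^ k = 1 := congrArg Subtype.val hk
    exact ⟨k, Subtype.ext (Subtype.ext (by simpa using hk'))⟩
  · intro y hy
    refine MonoidHom.mem_ker.mpr (Subtype.ext ?_)
    exact (QuotientGroup.eq_one_iff _).mpr (PSolvable.map_pCore_le Y (Subgroup.mem_map_of_mem Y.subtype hy))

/-- `Y / O_p(Y)` is the image of `Y` in `G / O_p(G)`. -/
theorem exists_equiv (d : Data S P L Y) [(Cfsg.pCore p G).Normal] [(Cfsg.pCore p ↥Y).Normal] :
    ∃ e : (↥Y ⧸ Cfsg.pCore p ↥Y) ≃* ↥(Y.map (QuotientGroup.mk' (Cfsg.pCore p G))),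
      ∀ y : Y, ((e (QuotientGroup.mk' _ y)) : G ⧸ Cfsg.pCore p G) = QuotientGroup.mk' _ (y : G) :=
  ⟨(QuotientGroup.quotientMulEquivOfEq (ker_eq d).symm).trans
    (QuotientGroup.quotientKerEquivOfSurjective _ (MonoidHom.subgroupMap_surjective _ Y)), fun _ => rfl⟩

/-- If the closure is `p'` modulo the core, it is `O^p(P)`. -/
theorem eq_of_pPrime (d : Data S P L Y) [(Cfsg.pCore p G).Normal]
    (h : (Nat.card ↥(Y.map (QuotientGroup.mk' (Cfsg.pCore p G)))).Coprime p) :
    (Cfsg.pResidual p ↥P).map P.subtype = Y := by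
  set π := QuotientGroup.mk' (Cfsg.pCore p G) with hπ
  set K := (Cfsg.pResidual p ↥P).map P.subtype with hK
  refine le_antisymm (residual_le_Y d) ?_
  have hKY := (pPrime_case (setting d) h).1
  haveI := closure_normal d
  have hQS : Cfsg.pCore p G ≤ (S : Subgroup G) := fun x hx =>
    (Fitting.mem_pCore_iff_forall_sylow).mp hx S
  have hle : Y ≤ K ⊔ Cfsg.pCore p G := by
    have := Subgroup.map_le_iff_le_comap.mp hKY.ge
    rwa [Subgroup.comap_map_eq, QuotientGroup.ker_mk'] at this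
  have hQK : Cfsg.pCore p G ≤ Subgroup.normalizer (K : Set G) := (hQS.trans d.hSP).trans (P_le_normalizer P)
  haveI hKn : (K.subgroupOf Y).Normal := by
    refine (Subgroup.normal_subgroupOf_iff_le_normalizer (residual_le_Y d)).mpr (hle.trans (sup_le ?_ hQK))
    exact Subgroup.le_normalizer
  -- `Y` is generated by conjugates of elements of order prime to `p`
  have hmem : ∀ y ∈ Y, (orderOf y).Coprime p → y ∈ K := by
    intro y hy hc
    have hy' : y ∈ (↑(Cfsg.pCore p G ⊔ K) : Set G) := by rw [sup_comm]; exact hle hy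
    rw [Subgroup.normal_mul] at hy'
    obtain ⟨q, hq, k, hk, rfl⟩ := hy'
    have hqY : q ∈ Y := by simpa using Y.mul_mem hy (Y.inv_mem (residual_le_Y d hk))
    let qY : Y := ⟨q, hqY⟩
    let kY : Y := ⟨k, residual_le_Y d hk⟩
    let f := QuotientGroup.mk' (K.subgroupOf Y)
    obtain ⟨n, hn⟩ := (Fitting.pCore_isPGroup (G := G) p) ⟨q, hq⟩
    have h1 : f (qY * kY) ^ p ^ n = 1 := by
      rw [map_mul, show f kY = 1 from (QuotientGroup.eq_one_iff kY).mpr hk, mul_one, ← map_pow,
        show qY ^ p ^ n = 1 from Subtype.ext (congrArg Subtype.val hn :), map_one]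
    have h2 : (orderOf (f (qY * kY))).Coprime p := by
      refine Nat.Coprime.coprime_dvd_left (orderOf_map_dvd f _) ?_
      rw [← Subgroup.orderOf_coe]
      exact hc
    have h3 : orderOf (f (qY * kY)) = 1 :=
      Nat.Coprime.eq_one_of_dvd (Nat.Coprime.pow_right n h2) (orderOf_dvd_of_pow_eq_one h1)
    exact (QuotientGroup.eq_one_iff (qY * kY)).mp (orderOf_eq_one_iff.mp h3)
  have hgen : Y ≤ Subgroup.closure {y : G | y ∈ Y ∧ (orderOf y).Coprime p} := by
    have hn : (Subgroup.closure {y : G | y ∈ Y ∧ (orderOf y).Coprime p}).Normal := by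
      refine ⟨fun x hx g => ?_⟩
      have hle' : (Subgroup.closure {y : G | y ∈ Y ∧ (orderOf y).Coprime p}).map (MulAut.conj g).toMonoidHom ≤
          Subgroup.closure {y : G | y ∈ Y ∧ (orderOf y).Coprime p} := by
        rw [MonoidHom.map_closure]
        refine Subgroup.closure_mono ?_
        rintro _ ⟨y, ⟨hy1, hy2⟩, rfl⟩
        exact ⟨Subgroup.Normal.conj_mem inferInstance y hy1 g,
          by rwa [orderOf_injective _ (MulAut.conj g).injective]⟩
      exact hle' ⟨x, hx, rfl⟩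
    conv_lhs => rw [d.hY]
    refine Subgroup.normalClosure_le_normal ?_
    rintro _ ⟨z, hz, rfl⟩
    have : Cfsg.pResidual p ↥P ≤ (Subgroup.closure {y : G | y ∈ Y ∧ (orderOf y).Coprime p}).comap P.subtype := by
      rw [Cfsg.pResidual, Subgroup.closure_le]
      intro x hx
      refine Subgroup.subset_closure ⟨residual_le_Y d ⟨x, Subgroup.subset_closure hx, rfl⟩, ?_⟩
      exact (Subgroup.orderOf_coe x).symm ▸ hx
    exact this hz
  exact hgen.trans ((Subgroup.closure_le _).mpr fun y hy => hmem y hy.1 hy.2)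

/-- The structure of the closure. -/
theorem structure_thm (d : Data S P L Y) [(Cfsg.pCore p G).Normal] [(Cfsg.pCore p ↥Y).Normal] :
    ((Cfsg.pResidual p ↥P).map P.subtype = Y ∧ (∃ t : ℕ, t.Prime ∧ t ≠ p ∧
      IsPGroup t (↥Y ⧸ Cfsg.pCore p ↥Y)) ∧
      (⊤ : Subgroup (↥Y ⧸ Cfsg.pCore p ↥Y)).lowerCentralSeries 2 = ⊥) ∨
    (p ∣ Nat.card (↥Y ⧸ Cfsg.pCore p ↥Y) ∧ Cfsg.layer (↥Y ⧸ Cfsg.pCore p ↥Y) = ⊤ ∧
      ∀ K₁ K₂ : Subgroup (↥Y ⧸ Cfsg.pCore p ↥Y), Cfsg.IsComponent K₁ → Cfsg.IsComponent K₂ →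
        ∃ s ∈ (S : Subgroup G), ((K₂.comap (QuotientGroup.mk' (Cfsg.pCore p ↥Y))).map Y.subtype) =
          (((K₁.comap (QuotientGroup.mk' (Cfsg.pCore p ↥Y))).map Y.subtype)).map
            (MulAut.conj s).toMonoidHom) := by
  set π := QuotientGroup.mk' (Cfsg.pCore p G) with hπ
  set Yb := Y.map π with hYb
  obtain ⟨e, he⟩ : ∃ e : (↥Y ⧸ Cfsg.pCore p ↥Y) ≃* ↥Yb,
      ∀ y : Y, ((e (QuotientGroup.mk' _ y)) : G ⧸ Cfsg.pCore p G) = π (y : G) := exists_equiv d
  have hc : Nat.card (↥Y ⧸ Cfsg.pCore p ↥Y) = Nat.card Yb := Nat.card_congr e.toEquiv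
  by_cases h : (Nat.card Yb).Coprime p
  · left
    obtain ⟨-, ⟨t, ht, htp, htG⟩, hcl⟩ := pPrime_case (setting d) h
    refine ⟨eq_of_pPrime d h, ⟨t, ht, htp, htG.of_equiv e.symm⟩, ?_⟩
    apply Subgroup.map_injective (f := e.toMonoidHom) e.injective
    apply Subgroup.map_injective Yb.subtype_injective
    rw [Subgroup.map_lowerCentralSeries, Subgroup.map_lowerCentralSeries,
      Subgroup.map_top_of_surjective _ e.surjective, ← MonoidHom.range_eq_map, Subgroup.range_subtype,
      Subgroup.lowerCentralSeries_succ, Subgroup.lowerCentralSeries_succ, Subgroup.lowerCentralSeries_zero,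
      hcl, Subgroup.map_bot, Subgroup.map_bot]
  · right
    refine ⟨?_, ?_, ?_⟩
    · rw [hc]
      by_contra hd
      exact h ((Fact.out : p.Prime).coprime_iff_not_dvd.mpr hd).symm
    · have hlay := layer_eq_top (setting d) h
      rw [eq_top_iff]
      intro x _
      have hx : e x ∈ Cfsg.layer ↥Yb := hlay ▸ Subgroup.mem_top _
      have hle : Cfsg.layer ↥Yb ≤ (Cfsg.layer (↥Y ⧸ Cfsg.pCore p ↥Y)).comap e.symm.toMonoidHom :=
        sSup_le fun J hJ => Subgroup.map_le_iff_le_comap.mp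
          (Layer.isComponent_le_layer (Layer.isComponent_map_equiv e.symm hJ))
      simpa using hle hx
    · intro K₁ K₂ h₁ h₂
      obtain ⟨s', ⟨s, hs, rfl⟩, hs'⟩ := transitive (setting d) h
        (Layer.isComponent_map_equiv e h₁) (Layer.isComponent_map_equiv e h₂)
      refine ⟨s, hs, ?_⟩
      haveI := closure_normal d
      have key : ∀ (K : Subgroup (↥Y ⧸ Cfsg.pCore p ↥Y)) (g : G),
          g ∈ (K.comap (QuotientGroup.mk' (Cfsg.pCore p ↥Y))).map Y.subtype ↔
            g ∈ Y ∧ π g ∈ (K.map e.toMonoidHom).map Yb.subtype := by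
        intro K g
        constructor
        · rintro ⟨y, hy, rfl⟩
          exact ⟨y.2, e (QuotientGroup.mk' _ y), Subgroup.mem_map_of_mem _ hy, he y⟩
        · rintro ⟨hg, _, ⟨q, hq, rfl⟩, hqg⟩
          refine ⟨⟨g, hg⟩, ?_, rfl⟩
          show QuotientGroup.mk' _ (⟨g, hg⟩ : Y) ∈ K
          rw [show QuotientGroup.mk' (Cfsg.pCore p ↥Y) (⟨g, hg⟩ : Y) = q from
            e.injective (Subtype.ext ((he ⟨g, hg⟩).trans hqg.symm))]
          exact hq
      ext g
      rw [key, hs']
      simp only [Subgroup.mem_map_equiv, key, MulAut.conj_symm_apply]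
      constructor
      · rintro ⟨hg, hgπ⟩
        refine ⟨?_, by simpa [hπ] using hgπ⟩
        simpa [mul_assoc] using (closure_normal d).conj_mem g hg s⁻¹
      · rintro ⟨hg, hgπ⟩
        refine ⟨?_, by simpa [hπ] using hgπ⟩
        simpa [mul_assoc] using (closure_normal d).conj_mem _ hg s

end CfsgLib.IsolatedPMin
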